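import Cfsg.Agent.H313.EPX.F4Cross
import Cfsg.Agent.H476.TF.RowFour
import Cfsg.Agent.H783.EX.LSix
import Cfsg.Agent.H357.EP.V27
import Cfsg.Agent.H523.EPX.AdmTwo

/-!
# S5745, the cell `f4.cross`: the rows `PSL₆(2)`, `PSU₄(3)`, `G₂(3)`, and the Tits group for `F₄(4)` (helper476)
-/

set_option autoImplicit false

namespace Cfsg.Agent.H476.EPX

open Cfsg Cfsg.Agent.OrdDiv Cfsg.Agent.H209.EPX Cfsg.Agent.H313.EPX

variable {F : Type} [Field F] [Fintype F]

theorem row_tits4 (hF : Fintype.card F = 4) : Row1 ↥(Lie.chevF4.group F) fun T _ => Lie.IsoTits T := by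
  intro H N T _ _ e h hT
  exact H476.TF.f4_four F hF e h hT

theorem row_l62 (hF : Fintype.card F = 5) : Row1 ↥(Lie.chevF4.group F) fun T _ => OrdDiv.Real (.psl 6 2) T := by
  intro H N T _ _ e h hT
  obtain ⟨K, i1, i2, hK, ⟨i⟩⟩ := hT
  have : CharP K 2 := H364.OutLie.charP_of_card Nat.prime_two (by norm_num : 1 ≤ 1) (by rw [hK, pow_one])
  exact H783.EX.eps_psl_six (F := K) (H357.EP.inE6_f4 (F := F) (by rw [hF]; decide) (MulEquiv.refl _)) h i

variable (hF : Fintype.card F = 2)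

include hF

theorem row_u43 : Row1 ↥(Lie.chevF4.group F) fun T _ => OrdDiv.Real (.psu 4 3) T := by
  intro H N T _ _ e h hT
  obtain ⟨K, i1, i2, hK, ⟨i⟩⟩ := hT
  exact H523.EPX.f4_psu43 (by rw [Nat.card_eq_fintype_card, hF]) h (by rw [hK]; norm_num) i

theorem row_g23 : Row1 ↥(Lie.chevF4.group F) fun T _ => OrdDiv.Real (.g2 3) T := by
  intro H N T _ _ e h hT
  obtain ⟨K, i1, i2, hK, ⟨i⟩⟩ := hT
  exact H523.EPX.f4_g2_three (by rw [Nat.card_eq_fintype_card, hF]) h hK i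

end Cfsg.Agent.H476.EPX
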