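import Cfsg.Agent.H476.EPX.TD4
import Cfsg.Agent.H349.KD4.Main
import Cfsg.Agent.H563.KG.CycFix
import Cfsg.Agent.OrdDiv.Table
import Cfsg.Agent.S0000

/-!
# S3499: `³D₄(q₀)` in orthogonal groups over the field with `q₀ ^ 3` elements, unconditional (helper476)
-/

set_option autoImplicit false

namespace Cfsg.Agent.H476.EPX

open Subgroup Cfsg.Lie Cfsg.Agent.H284 Cfsg.Agent.H419.EP Cfsg.Agent.H436 Cfsg.Agent.H563.KG

theorem hkf {K : Type} [Field K] [Fintype K] {p f : ℕ} (hp : p.Prime) (hf : 1 ≤ f) (hK : Fintype.card K = (p ^ f) ^ 3)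
    (M : Subgroup (twistedD4 K (p ^ f))) (hn : (p ^ f) ^ 4 - (p ^ f) ^ 2 + 1 ∣ Nat.card M) (hM : M ≠ ⊤) :
    Nat.card M ∣ 4 * ((p ^ f) ^ 4 - (p ^ f) ^ 2 + 1) := by
  have hq : 2 ≤ p ^ f := hp.two_le.trans (Nat.le_self_pow (by omega) p)
  rw [← Cfsg.Agent.H349.KD4.ncl12] at hn ⊢
  have hcard : Nat.card ↥(twistedD4 K (p ^ f)) = ncl 12 (p ^ f) *
      ((p ^ f) ^ 12 * ((p ^ f) ^ 2 - 1) * ((p ^ f) ^ 6 - 1) * ((p ^ f) ^ 4 + (p ^ f) ^ 2 + 1)) := by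
    rw [Cfsg.Agent.S1067.result (hp.isPrimePow.pow (by omega)) hK,
      Cfsg.Agent.H349.KD4.ncl12]
    have h1 : (p ^ f) ^ 8 + (p ^ f) ^ 4 + 1 = ((p ^ f) ^ 4 - (p ^ f) ^ 2 + 1) * ((p ^ f) ^ 4 + (p ^ f) ^ 2 + 1) := by
      have h2 : (p ^ f) ^ 2 ≤ (p ^ f) ^ 4 := Nat.pow_le_pow_right (by omega) (by norm_num)
      zify [h2]
      ring
    rw [h1]
    ring
  have hidx : M.index ∣ (p ^ f) ^ 12 * ((p ^ f) ^ 2 - 1) * ((p ^ f) ^ 6 - 1) * ((p ^ f) ^ 4 + (p ^ f) ^ 2 + 1) := by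
    obtain ⟨a, ha⟩ := hn
    have h1 := M.card_mul_index
    rw [hcard, ha, mul_assoc] at h1
    have h2 : 0 < ncl 12 (p ^ f) := by have := Cfsg.Agent.H349.KD4.ncl_gt_eight hq; omega
    exact ⟨a, by rw [mul_comm M.index]; exact (Nat.eq_of_mul_eq_mul_left h2 h1).symm⟩
  have hM2 := (Cfsg.Agent.H349.KD4.kfull_TD4 Cfsg.Agent.OrdDiv.table (fun _ _ _ _ => Cfsg.Agent.S0000.result)
    Cfsg.Agent.H563.KG.cycFixSolv hp hf hK M (fun r hr hd => ?_)).resolve_left hM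
  · rwa [Cfsg.Agent.H349.KD4.m_eq hq] at hM2
  · have h1 := hd.trans hidx
    rcases hr.prime.dvd_mul.1 h1 with h1 | h1
    · rcases hr.prime.dvd_mul.1 h1 with h1 | h1
      · rcases hr.prime.dvd_mul.1 h1 with h1 | h1
        · exact hr.not_dvd_pow _ h1
        · exact hr.not_dvd_sub (by norm_num) h1
      · exact hr.not_dvd_sub (by norm_num) h1
    · refine hr.not_dvd_sub (show ¬ 12 ∣ 6 by norm_num) (h1.trans ⟨(p ^ f) ^ 2 - 1, ?_⟩)
      have h2 : 1 ≤ (p ^ f) ^ 2 := Nat.one_le_pow _ _ (by omega)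
      have h3 : 1 ≤ (p ^ f) ^ 6 := Nat.one_le_pow _ _ (by omega)
      zify [h2, h3]
      ring

/-- **S3499, `³D₄(q₀)`** (VII-O8plus-3D4): no extremely primitive group with orthogonal socle over `F`, `|F| = q₀ ^ 3`, has a
point stabiliser with socle `³D₄(q₀)`. -/
theorem no_td4 {Q : Type*} [Group Q] [Finite Q] {A : Subgroup Q} {Γ : Subgroup (MulAut Q)} (h : EPT A Γ) {F : Type*}
    [Field F] [Fintype F] {ι : Type} [Fintype ι] [DecidableEq ι] {Qf : (ι → F) → F}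
    (hQf : Geo.IsNondegenerateQuadraticForm Qf) (m : Model Q (Geo.omegaGL Qf)) {K : Type} [Field K] [Fintype K] {p f : ℕ}
    (hp : p.Prime) (hf : 1 ≤ f) (hK : Fintype.card K = (p ^ f) ^ 3) (hF : Fintype.card F = (p ^ f) ^ 3) {L : Type*}
    [Group L] (hA : HasSoc A L) (e : L ≃* twistedD4 K (p ^ f)) : False :=
  no_td4_of h hQf m hp hf hK hF (fun M h1 h2 => hkf hp hf hK M h1 h2) hA e

/-- the same for a group which is isomorphic to `³D₄(q₀)` -/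
theorem no_td4' {Q : Type*} [Group Q] [Finite Q] {A : Subgroup Q} {Γ : Subgroup (MulAut Q)} (h : EPT A Γ) {F : Type*}
    [Field F] [Fintype F] {ι : Type} [Fintype ι] [DecidableEq ι] {Qf : (ι → F) → F}
    (hQf : Geo.IsNondegenerateQuadraticForm Qf) (m : Model Q (Geo.omegaGL Qf)) {q₀ : ℕ} (hq : IsPrimePow q₀) {K : Type}
    [Field K] [Fintype K] (hK : Fintype.card K = q₀ ^ 3) (hF : Fintype.card F = q₀ ^ 3) {L : Type*}
    [Group L] (hA : HasSoc A L) (e : L ≃* twistedD4 K q₀) : False := by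
  obtain ⟨p, f, hp, hf, rfl⟩ := (isPrimePow_nat_iff _).1 hq
  exact no_td4 h hQf m hp hf hK hF hA e

end Cfsg.Agent.H476.EPX
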