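import Cfsg.Agent.H476.EPX.Iso
import Cfsg.Agent.H419.EP.Iface
import Mathlib.GroupTheory.Transfer

/-!
# Extremely primitive groups: a cyclic torus of the socle of `A` (helper476)

`Sit` : `x ∈ N`, `N` the simple socle of `A`, every proper subgroup of `N` containing `x` normalises `⟨x⟩` and has order
dividing `c |x|`. `no_orth` : this is impossible for orthogonal groups `Q` when `|x|` divides `q ^ d + 1` and is prime to
`q ^ j - 1`, `0 < j < 2 d`, and there is a prime `r` with the same properties such that `r`-elements of `A` lie in `N`.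
-/

set_option autoImplicit false
set_option linter.unusedSectionVars false

namespace Cfsg.Agent.H476.EPX

open Subgroup Cfsg.Agent.H284 Cfsg.Agent.H419.EP
open scoped MatrixGroups commutatorElement

/-- the situation -/
structure Sit {Q : Type*} [Group Q] (A N : Subgroup Q) (x : Q) (c s r : ℕ) : Prop where
  le : N ≤ A
  normal : ∀ a ∈ A, ∀ n ∈ N, a * n * a⁻¹ ∈ N
  cent : ∀ a ∈ A, (∀ n ∈ N, a * n = n * a) → a = 1
  simple : IsSimpleGroup N
  nonab : ¬ ∀ a b : N, a * b = b * a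
  mem : x ∈ N
  ovr : ∀ K : Subgroup Q, K ≤ N → x ∈ K → K ≠ N → (∀ k ∈ K, k * x * k⁻¹ ∈ zpowers x) ∧ Nat.card K ∣ c * orderOf x
  cop : c.Coprime (orderOf x)
  s_prime : s.Prime
  s_dvd : s ∣ orderOf x
  s_sylow : ¬ s ∣ Nat.card N / orderOf x
  r_prime : r.Prime
  r_dvd : ¬ r ∣ c * orderOf x
  r_mem : ∀ g ∈ A, g ^ r = 1 → g ∈ N

variable {Q : Type*} [Group Q] [Finite Q] {A N : Subgroup Q} {Γ : Subgroup (MulAut Q)} {x : Q} {c s r : ℕ}

namespace Sit

variable (S : Sit A N x c s r)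

include S

theorem N_ne : N ≠ ⊥ := by
  intro h
  apply S.nonab
  intro a b
  have hall : ∀ y ∈ N, y = 1 := fun y hy => by rw [h, mem_bot] at hy; exact hy
  have ha : (a : Q) = 1 := hall a a.2
  have hb : (b : Q) = 1 := hall b b.2
  apply Subtype.ext
  rw [Subgroup.coe_mul, Subgroup.coe_mul, ha, hb]

theorem x_ne : x ≠ 1 := by
  rintro rfl
  have := S.s_dvd
  rw [orderOf_one, Nat.dvd_one] at this
  exact S.s_prime.one_lt.ne' this

/-- the automorphisms of `A` preserve `N` -/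
theorem map_N (h : EPT A Γ) {σ : MulAut Q} (hσ : σ ∈ Γ) {k : Q} (hk : k ∈ N) : σ k ∈ N := by
  have := S.simple
  set N' : Subgroup Q := N.map σ.toMonoidHom with hN'
  have hN'A : N' ≤ A := by
    rintro _ ⟨n, hn, rfl⟩
    exact (h.inv σ hσ n).2 (S.le hn)
  have hN'n : ∀ a ∈ A, ∀ n ∈ N', a * n * a⁻¹ ∈ N' := by
    rintro a ha _ ⟨n, hn, rfl⟩
    obtain ⟨b, rfl⟩ := σ.surjective a
    have hb : b ∈ A := (h.inv σ hσ b).1 ha
    refine ⟨b * n * b⁻¹, S.normal b hb n hn, ?_⟩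
    show σ (b * n * b⁻¹) = σ b * σ n * (σ b)⁻¹
    rw [map_mul, map_mul, map_inv]
  have hn : ((N' ⊓ N).subgroupOf N).Normal := ⟨by
    rintro ⟨n, hn'⟩ hn ⟨a, ha⟩
    exact ⟨hN'n a (S.le ha) n hn.1, N.mul_mem (N.mul_mem ha hn') (N.inv_mem ha)⟩⟩
  rcases hn.eq_bot_or_eq_top with h4 | h4
  · exfalso
    apply S.N_ne
    rw [Subgroup.eq_bot_iff_forall]
    intro n hn'
    have h5 : σ n = 1 := by
      have hσn : σ n ∈ N' := ⟨n, hn', rfl⟩
      apply S.cent _ (hN'A hσn)
      intro b hb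
      have h6 : σ n * b * (σ n)⁻¹ * b⁻¹ ∈ N' ⊓ N := by
        refine ⟨?_, ?_⟩
        · have : σ n * b * (σ n)⁻¹ * b⁻¹ = σ n * (b * (σ n)⁻¹ * b⁻¹) := by group
          rw [this]
          exact N'.mul_mem hσn (hN'n b (S.le hb) _ (N'.inv_mem hσn))
        · exact N.mul_mem (S.normal _ (hN'A hσn) b hb) (N.inv_mem hb)
      have h7 : (⟨σ n * b * (σ n)⁻¹ * b⁻¹, h6.2⟩ : N) ∈ (N' ⊓ N).subgroupOf N := h6
      rw [h4, mem_bot] at h7
      have h8 : σ n * b * (σ n)⁻¹ * b⁻¹ = 1 := congrArg Subtype.val h7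
      rw [mul_inv_eq_one, mul_inv_eq_iff_eq_mul] at h8
      exact h8
    rwa [EmbeddingLike.map_eq_one_iff] at h5
  · have h5 : N ≤ N' := by
      intro n hn'
      have h6 : (⟨n, hn'⟩ : N) ∈ (N' ⊓ N).subgroupOf N := by rw [h4]; exact mem_top _
      exact (mem_inf.1 h6).1
    have h6 : Nat.card N' = Nat.card N :=
      Nat.card_congr (N.equivMapOfInjective σ.toMonoidHom σ.injective).symm.toEquiv
    have h7 : N = N' := Subgroup.eq_of_le_of_card_ge h5 h6.le
    rw [h7]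
    exact ⟨k, hk, rfl⟩

/-- the elements of `K` of order dividing `|x|` -/
theorem mem_zpowers_of {K : Subgroup Q} (hK : K ≤ N) (hx : x ∈ K) (hKN : K ≠ N) {g : Q} (hg : g ∈ K)
    (hgn : g ^ orderOf x = 1) : g ∈ zpowers x := by
  obtain ⟨h1, h2⟩ := S.ovr K hK hx hKN
  have hle : zpowers x ≤ K := zpowers_le.2 hx
  have hn : ((zpowers x).subgroupOf K).Normal := ⟨by
    rintro ⟨n, hn'⟩ hn ⟨k, hk⟩
    obtain ⟨i, hi⟩ := mem_zpowers_iff.1 (mem_subgroupOf.1 hn)
    show k * n * k⁻¹ ∈ zpowers x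
    have h3 : k * n * k⁻¹ = (k * x * k⁻¹) ^ i := by
      rw [conj_zpow]
      exact congrArg (fun y => k * y * k⁻¹) hi.symm
    rw [h3]
    exact (zpowers x).zpow_mem (h1 k hk) i⟩
  have hidx : ((zpowers x).subgroupOf K).index ∣ c := by
    have h3 := ((zpowers x).subgroupOf K).card_mul_index
    rw [Nat.card_congr (Subgroup.subgroupOfEquivOfLe hle).toEquiv, Nat.card_zpowers] at h3
    rw [← h3, mul_comm c] at h2
    exact Nat.dvd_of_mul_dvd_mul_left (orderOf_pos x) h2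
  have h4 : orderOf (QuotientGroup.mk' ((zpowers x).subgroupOf K) ⟨g, hg⟩) ∣ 1 := by
    rw [← S.cop]
    refine Nat.dvd_gcd ((_root_.orderOf_dvd_natCard _).trans ?_) ?_
    · rw [← Subgroup.index_eq_card]; exact hidx
    · apply orderOf_dvd_of_pow_eq_one
      rw [← map_pow, show (⟨g, hg⟩ : K) ^ orderOf x = 1 from Subtype.ext hgn, map_one]
  rw [Nat.dvd_one, orderOf_eq_one_iff, QuotientGroup.mk'_apply, QuotientGroup.eq_one_iff] at h4
  exact h4

/-- **every two-point stabiliser containing `x` contains `N_A(⟨x⟩)`** -/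
theorem norm_le (h : EPT A Γ) {y : Q} (hy : y ∉ A) (hxy : x ∈ cj y A) {a : Q} (ha : a ∈ A)
    (hax : a * x * a⁻¹ ∈ zpowers x) : a ∈ cj y A := by
  have hKN : N ⊓ cj y A ≠ N := by
    intro he
    apply S.N_ne
    refine h.F1 y hy N S.le (fun σ hσ k hk => S.map_N h hσ hk) ?_
    rw [← he]
    exact inf_le_right
  have hzx : ∀ k ∈ zpowers x, k ^ orderOf x = 1 := by
    intro k hk
    obtain ⟨i, rfl⟩ := mem_zpowers_iff.1 hk
    rw [← zpow_natCast, ← zpow_mul, mul_comm, zpow_mul, zpow_natCast, pow_orderOf_eq_one, one_zpow]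
  have hle : zpowers x ≤ A ⊓ cj y A := zpowers_le.2 ⟨S.le S.mem, hxy⟩
  rw [← h.conj_stab ha]
  refine h.norm y hy (zpowers x) hle ?_ ?_ _ ((h.conj a).2 ha) ?_
  · intro σ hσ hσy k hk
    refine S.mem_zpowers_of inf_le_left ⟨S.mem, hxy⟩ hKN (g := σ k) ?_ ?_
    · exact ⟨S.map_N h hσ ((zpowers_le.2 S.mem) hk), (mem_inf.1 (h.stab_M0 hσ hσy (hle hk))).2⟩
    · rw [← map_pow, hzx k hk, map_one]
  · intro he
    apply S.x_ne
    have : x ∈ zpowers x := mem_zpowers x
    rwa [he, mem_bot] at this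
  · intro k hk
    obtain ⟨i, rfl⟩ := mem_zpowers_iff.1 hk
    rw [MulAut.conj_apply, ← conj_zpow]
    exact (zpowers x).zpow_mem hax i

/-- (CL) -/
theorem cl (h : EPT A Γ) {t : Q} (ht : t * x = x * t) {a : Q} (ha : a ∈ A) (hax : a * x * a⁻¹ ∈ zpowers x) :
    t * a * t⁻¹ ∈ A := by
  refine h.CL (Y := zpowers x) (C := {a | a ∈ A ∧ a * x * a⁻¹ ∈ zpowers x}) (fun c hc => hc.1)
    (zpowers_le.2 (S.le S.mem)) ?_ ?_ ⟨ha, hax⟩
  · intro y hy hxy c hc
    exact S.norm_le h hy (hxy (mem_zpowers x)) hc.1 hc.2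
  · intro y hy
    obtain ⟨i, rfl⟩ := mem_zpowers_iff.1 hy
    rw [← conj_zpow, ht, mul_inv_cancel_right]
    exact (zpowers x).zpow_mem (mem_zpowers x) i

/-- no element of order `r` of `A` commutes with `x` -/
theorem eq_one {g : Q} (hg : g ∈ A) (hgx : g * x = x * g) (hgr : g ^ r = 1) : g = 1 := by
  have := S.simple
  have hgN := S.r_mem g hg hgr
  have hKN : N ⊓ centralizer ({x} : Set Q) ≠ N := by
    intro he
    apply S.nonab
    have h1 : (⟨x, S.mem⟩ : N) ∈ center N := by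
      rw [mem_center_iff]
      intro n
      have h2 : (n : Q) ∈ N ⊓ centralizer ({x} : Set Q) := by rw [he]; exact n.2
      exact Subtype.ext (mem_centralizer_singleton_iff.1 (mem_inf.1 h2).2)
    have h2 : center N = ⊤ := by
      rcases (inferInstance : (center N).Normal).eq_bot_or_eq_top with h3 | h3
      · rw [h3, mem_bot] at h1
        exact absurd (congrArg Subtype.val h1) S.x_ne
      · exact h3
    intro a b
    have h3 : b ∈ center N := by rw [h2]; exact mem_top _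
    exact mem_center_iff.1 h3 a
  have h1 := (S.ovr _ inf_le_left ⟨S.mem, mem_centralizer_singleton_iff.2 rfl⟩ hKN).2
  have h2 : orderOf g ∣ c * orderOf x :=
    (Subgroup.orderOf_dvd_natCard _ (mem_inf.2 ⟨hgN, mem_centralizer_singleton_iff.2 hgx⟩)).trans h1
  rcases (Nat.dvd_prime S.r_prime).1 (orderOf_dvd_of_pow_eq_one hgr) with h3 | h3
  · exact orderOf_eq_one_iff.1 h3
  · rw [h3] at h2
    exact absurd h2 S.r_dvd

/-- an element normalising `⟨x⟩` and not centralising it -/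
theorem exists_w : ∃ w ∈ N, w * x * w⁻¹ ∈ zpowers x ∧ w * x ≠ x * w ∧ ¬ r ∣ orderOf w := by
  have := S.simple
  have hs : Fact s.Prime := ⟨S.s_prime⟩
  by_contra hcon
  push Not at hcon
  set x' : N := ⟨x, S.mem⟩ with hx'
  have hox : orderOf x' = orderOf x := by rw [hx', Subgroup.orderOf_mk]
  obtain ⟨P0⟩ : Nonempty (Sylow s (zpowers x')) := inferInstance
  set P : Subgroup N := (P0 : Subgroup (zpowers x')).map (zpowers x').subtype with hP
  have hPz : P ≤ zpowers x' := by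
    rintro _ ⟨y, _, rfl⟩
    exact y.2
  have hPg : IsPGroup s P := P0.isPGroup'.map _
  have hidx : (zpowers x').index = Nat.card N / orderOf x := by
    have h1 := (zpowers x').card_mul_index
    rw [Nat.card_zpowers, hox] at h1
    rw [← h1, Nat.mul_div_cancel_left _ (orderOf_pos x)]
  have hPi : ¬ s ∣ P.index := by
    have h1 : P.relIndex (zpowers x') * (zpowers x').index = P.index := Subgroup.relIndex_mul_index hPz
    have h2 : P.subgroupOf (zpowers x') = (P0 : Subgroup (zpowers x')) := by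
      exact Subgroup.comap_map_eq_self_of_injective (zpowers x').subtype_injective _
    rw [← h1, Subgroup.relIndex, h2, hidx]
    intro h3
    rcases S.s_prime.dvd_mul.1 h3 with h4 | h4
    · exact P0.not_dvd_index h4
    · exact S.s_sylow h4
  let PS : Sylow s N := hPg.toSylow hPi
  have hPne : P ≠ ⊥ := by
    intro he
    apply hPi
    rw [he, Subgroup.index_bot]
    exact (S.s_dvd.trans (by rw [← hox]; exact _root_.orderOf_dvd_natCard _))
  have hzab : ∀ a ∈ zpowers x', ∀ b ∈ zpowers x', a * b = b * a := by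
    intro a ha b hb
    obtain ⟨i, rfl⟩ := mem_zpowers_iff.1 ha
    obtain ⟨j, rfl⟩ := mem_zpowers_iff.1 hb
    rw [← zpow_add, ← zpow_add, add_comm]
  have hPtop : P ≠ ⊤ := by
    intro he
    apply S.nonab
    intro a b
    exact hzab a (hPz (by rw [he]; exact mem_top a)) b (hPz (by rw [he]; exact mem_top b))
  -- the normaliser of `P`
  set K : Subgroup Q := (normalizer (P : Set N)).map N.subtype with hK
  have hKle : K ≤ N := by
    rintro _ ⟨y, _, rfl⟩
    exact y.2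
  have hzK : zpowers x' ≤ normalizer (P : Set N) := by
    intro a ha
    rw [mem_normalizer_iff]
    intro b
    constructor
    · intro hb
      rw [hzab a ha b (hPz hb), mul_inv_cancel_right]
      exact hb
    · intro hb
      have h1 : b = a⁻¹ * (a * b * a⁻¹) * a := by group
      have h2 : a⁻¹ * (a * b * a⁻¹) = (a * b * a⁻¹) * a⁻¹ := hzab _ (inv_mem ha) _ (hPz hb)
      rw [h1, h2, inv_mul_cancel_right]
      exact hb
  have hxK : x ∈ K := ⟨x', hzK (mem_zpowers x'), rfl⟩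
  have hKN : K ≠ N := by
    intro he
    have h1 : normalizer (P : Set N) = ⊤ := by
      rw [Subgroup.eq_top_iff']
      intro y
      have h2 : (y : Q) ∈ K := by rw [he]; exact y.2
      exact (Subgroup.mem_map_iff_mem N.subtype_injective).1 h2
    have h2 : P.Normal := Subgroup.normalizer_eq_top_iff.1 h1
    rcases h2.eq_bot_or_eq_top with h3 | h3
    · exact hPne h3
    · exact hPtop h3
  obtain ⟨h1, h2⟩ := S.ovr K hKle hxK hKN
  -- everything centralises `x`
  have hcent : normalizer (P : Set N) ≤ centralizer (P : Set N) := by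
    intro y hy
    have hyK : (y : Q) ∈ K := ⟨y, hy, rfl⟩
    have h3 : (y : Q) * x = x * y := by
      by_contra hne
      apply S.r_dvd
      exact (hcon y y.2 (h1 y hyK) hne).trans ((Subgroup.orderOf_dvd_natCard _ hyK).trans h2)
    have h4 : y * x' = x' * y := Subtype.ext h3
    rw [mem_centralizer_iff]
    intro p hp
    obtain ⟨i, rfl⟩ := mem_zpowers_iff.1 (hPz hp)
    exact ((show Commute y x' from h4).zpow_right i).eq.symm
  have h3 := MonoidHom.ker_transferSylow_isComplement' (P := PS) hcent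
  have h4 : (MonoidHom.transferSylow PS hcent).ker.Normal := inferInstance
  rcases h4.eq_bot_or_eq_top with h5 | h5
  · rw [h5] at h3
    exact hPtop (Subgroup.isComplement'_bot_left.1 h3)
  · rw [h5] at h3
    exact hPne (Subgroup.isComplement'_top_left.1 h3)

end Sit

section orth

open Polynomial Matrix

variable {F : Type*} [Field F] [Fintype F] {ι : Type} [Fintype ι] [DecidableEq ι] {Qf : (ι → F) → F}

omit [Fintype F] in
theorem omega_le {g : GL ι F} (hg : g ∈ Cfsg.Geo.omegaGL Qf) : g ∈ Cfsg.isometryGroup F Qf := by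
  obtain ⟨y, _, rfl⟩ := hg
  exact y.2

omit [Fintype F] in
theorem comm_mem {a b : GL ι F} (ha : a ∈ Cfsg.isometryGroup F Qf) (hb : b ∈ Cfsg.isometryGroup F Qf) :
    a * b * a⁻¹ * b⁻¹ ∈ Cfsg.Geo.omegaGL Qf := by
  refine ⟨⁅(⟨a, ha⟩ : Cfsg.isometryGroup F Qf), ⟨b, hb⟩⁆, ?_, ?_⟩
  · exact Subgroup.commutator_mem_commutator (mem_top _) (mem_top _)
  · rfl

omit [Fintype F] in
theorem scal_sq (hQf : Cfsg.Geo.IsNondegenerateQuadraticForm Qf) {g : GL ι F} (hg : g ∈ Cfsg.isometryGroup F Qf)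
    (hs : g ∈ Cfsg.Geo.scalars ι F) : g ^ 2 = 1 := by
  obtain ⟨c, hc⟩ := (Cfsg.Geo.mem_scalars_iff g).1 hs
  by_cases hι : Nonempty ι
  · obtain ⟨i⟩ := hι
    have hv : (Pi.single i 1 : ι → F) ≠ 0 := by
      intro h0
      have := congrFun h0 i
      rw [Pi.single_eq_same] at this
      exact one_ne_zero this
    obtain ⟨-, y, hy⟩ := hQf.nondegenerate _ hv
    obtain ⟨u, hu⟩ : ∃ u, Qf u ≠ 0 := by
      by_contra hcon
      push Not at hcon
      apply hy
      rw [QuadraticMap.polar, hcon, hcon, hcon]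
      simp
    have h1 := mem_iso_iff.1 hg u
    rw [hc, Matrix.smul_mulVec, Matrix.one_mulVec, hQf.smul] at h1
    have h2 : (c : F) ^ 2 = 1 := mul_right_cancel₀ hu (h1.trans (one_mul _).symm)
    apply Units.ext
    rw [Units.val_pow_eq_pow_val, hc, _root_.smul_pow, one_pow, h2, one_smul]
    rfl
  · rw [not_nonempty_iff] at hι
    exact Units.ext (Subsingleton.elim _ _)

omit [Fintype F] in
theorem scal_comm {g : GL ι F} (hs : g ∈ Cfsg.Geo.scalars ι F) (b : GL ι F) : g * b = b * g := by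
  obtain ⟨c, hc⟩ := (Cfsg.Geo.mem_scalars_iff g).1 hs
  apply Units.ext
  rw [Units.val_mul, Units.val_mul, hc, smul_mul_assoc, one_mul, mul_smul_comm, mul_one]

/-- conjugation of polynomials -/
theorem aeval_cj {R : Type*} [Ring R] [Algebra F R] (w : Rˣ) (X : R) (f : F[X]) :
    aeval ((w : R) * X * ((w⁻¹ : Rˣ) : R)) f = (w : R) * aeval X f * ((w⁻¹ : Rˣ) : R) := by
  have h2 : ∀ n : ℕ, ((w : R) * X * ((w⁻¹ : Rˣ) : R)) ^ n = (w : R) * X ^ n * ((w⁻¹ : Rˣ) : R) := by
    intro n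
    induction n with
    | zero => simp
    | succ n ih =>
      rw [pow_succ, ih, pow_succ]
      calc (w : R) * X ^ n * ((w⁻¹ : Rˣ) : R) * ((w : R) * X * ((w⁻¹ : Rˣ) : R)) =
          (w : R) * X ^ n * (((w⁻¹ : Rˣ) : R) * (w : R)) * X * ((w⁻¹ : Rˣ) : R) := by noncomm_ring
        _ = _ := by rw [Units.inv_mul]; noncomm_ring
  induction f using Polynomial.induction_on' with
  | add p q hp hq => rw [map_add, map_add, hp, hq]; noncomm_ring
  | monomial n a =>
    rw [aeval_monomial, aeval_monomial, h2, ← Algebra.smul_def, ← Algebra.smul_def, mul_smul_comm, smul_mul_assoc]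

/-- **The contradiction for orthogonal groups.** -/
theorem no_orth (hQf : Cfsg.Geo.IsNondegenerateQuadraticForm Qf) (m : Model Q (Cfsg.Geo.omegaGL Qf)) (h : EPT A Γ)
    (S : Sit A N x c s r) {d : ℕ} (hd : 0 < d) (hodd : Odd (orderOf x)) (hN : orderOf x ∣ Fintype.card F ^ d + 1)
    (hN1 : ∀ j, 0 < j → j < 2 * d → (orderOf x).Coprime (Fintype.card F ^ j - 1)) (hr2 : r ≠ 2)
    (hrd : r ∣ Fintype.card F ^ d + 1) (hrj : ∀ j, 0 < j → j < 2 * d → ¬ r ∣ Fintype.card F ^ j - 1) : False := by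
  classical
  have hrodd : Odd r := S.r_prime.odd_of_ne_two hr2
  -- an element of `S` which is scalar and of odd order is trivial
  have hsc : ∀ g : GL ι F, g ∈ Cfsg.Geo.omegaGL Qf → g ∈ Cfsg.Geo.scalars ι F → ∀ k : ℕ, Odd k → g ^ k = 1 → g = 1 := by
    intro g hg hgs k hk hgk
    have h1 := scal_sq hQf (omega_le hg) hgs
    have h2 : orderOf g ∣ Nat.gcd 2 k := Nat.dvd_gcd (orderOf_dvd_of_pow_eq_one h1) (orderOf_dvd_of_pow_eq_one hgk)
    rw [Nat.Coprime.gcd_eq_one (Nat.coprime_two_left.2 hk), Nat.dvd_one, orderOf_eq_one_iff] at h2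
    exact h2
  obtain ⟨w, hwN, hwx, hwne, hwr⟩ := S.exists_w
  -- the lift of `x`
  obtain ⟨gx, hgx⟩ := m.surj x
  set n := orderOf x with hn
  have hgn : ((gx : GL ι F) ^ n) ^ 2 = 1 := by
    apply scal_sq hQf
    · exact (Cfsg.isometryGroup F Qf).pow_mem (omega_le gx.2) n
    · have h1 : m.π (gx ^ n) = 1 := by rw [map_pow, hgx, hn, pow_orderOf_eq_one]
      exact (m.ker _).1 h1
  obtain ⟨xh, hxh⟩ : ∃ xh : Cfsg.Geo.omegaGL Qf, xh = gx ^ (n + 1) := ⟨_, rfl⟩
  have hπx : m.π xh = x := by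
    rw [hxh, map_pow, hgx, pow_succ, hn, pow_orderOf_eq_one, one_mul]
  have hxn : ((xh : GL ι F)) ^ n = 1 := by
    obtain ⟨k, hk⟩ : Even (n + 1) := hodd.add_one
    rw [hxh, Subgroup.coe_pow, ← pow_mul, hk, show (k + k) * n = n * 2 * k by ring, pow_mul, pow_mul, hgn, one_pow]
  -- the lift of `w`
  obtain ⟨wh, hπw⟩ := m.surj w
  obtain ⟨k, hk⟩ : ∃ k : ℕ, x ^ k = w * x * w⁻¹ := by
    have h1 := (mem_zpowers_iff_mem_range_orderOf).1 hwx
    obtain ⟨k, -, hk⟩ := Finset.mem_image.1 h1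
    exact ⟨k, hk⟩
  have hconj : (wh : GL ι F) * xh * (wh : GL ι F)⁻¹ = (xh : GL ι F) ^ k := by
    have h1 : m.π (wh * xh * wh⁻¹ * (xh ^ k)⁻¹) = 1 := by
      rw [map_mul, map_mul, map_mul, map_inv, map_inv, map_pow, hπw, hπx, hk, mul_inv_cancel]
    have h2 := (m.ker _).1 h1
    have h3 : ((wh * xh * wh⁻¹ * (xh ^ k)⁻¹ : Cfsg.Geo.omegaGL Qf) : GL ι F) ^ n = 1 := by
      have h4 : ((wh * xh * wh⁻¹ * (xh ^ k)⁻¹ : Cfsg.Geo.omegaGL Qf) : GL ι F) * (xh : GL ι F) ^ k =
          (wh : GL ι F) * xh * (wh : GL ι F)⁻¹ := by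
        push_cast
        group
      have h5 := congrArg (fun y : GL ι F => y ^ n) h4
      rw [(show Commute ((wh * xh * wh⁻¹ * (xh ^ k)⁻¹ : Cfsg.Geo.omegaGL Qf) : GL ι F) ((xh : GL ι F) ^ k) from
        scal_comm h2 _).mul_pow, conj_pow, ← pow_mul, mul_comm k n, pow_mul, hxn, one_pow, mul_one, mul_one,
        mul_inv_cancel] at h5
      exact h5
    have h6 := hsc _ (wh * xh * wh⁻¹ * (xh ^ k)⁻¹ : Cfsg.Geo.omegaGL Qf).2 h2 n hodd h3
    have h7 : ((wh * xh * wh⁻¹ * (xh ^ k)⁻¹ : Cfsg.Geo.omegaGL Qf) : GL ι F) * (xh : GL ι F) ^ k =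
        (wh : GL ι F) * xh * (wh : GL ι F)⁻¹ := by
      push_cast
      group
    rw [← h7, h6, one_mul]
  set X : Matrix ι ι F := ((xh : GL ι F) : Matrix ι ι F) with hX
  have hXn : X ^ n = 1 := by
    rw [hX, ← Units.val_pow_eq_pow_val, hxn]; rfl
  have hXk : X ^ k = ((wh : GL ι F) : Matrix ι ι F) * X * (((wh : GL ι F)⁻¹ : GL ι F) : Matrix ι ι F) := by
    rw [hX, ← Units.val_pow_eq_pow_val, ← hconj]; rfl
  have hXne : X ^ k ≠ X := by
    intro he
    apply hwne
    have h1 : (xh : GL ι F) ^ k = xh := Units.ext (by rw [Units.val_pow_eq_pow_val]; exact he)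
    have h2 : x ^ k = x := by
      have h3 : xh ^ k = xh := Subtype.ext h1
      rw [← hπx, ← map_pow, h3]
    rw [h2, eq_mul_inv_iff_mul_eq] at hk
    exact hk.symm
  obtain ⟨f, hf1, hf2, hf3, hf4⟩ := exists_poly (F := F) (x := X) (k := k) hXn hd hN hN1 S.r_prime hrd hrj hXne (by
    intro g hg
    rw [hXk, aeval_cj, hg, mul_zero, zero_mul])
  have hNF : (n : F) ≠ 0 := by
    intro h0
    obtain ⟨c', hc'⟩ := hN
    have h1 : ((Fintype.card F ^ d + 1 : ℕ) : F) = 0 := by rw [hc']; push_cast; rw [h0, zero_mul]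
    push_cast at h1
    rw [Nat.cast_card_eq_zero, zero_pow hd.ne', zero_add] at h1
    exact one_ne_zero h1
  have hrpos := S.r_prime.pos
  -- the isometry `z`
  let z : GL ι F := ⟨aeval X f, (aeval X f) ^ (r - 1), by rw [← pow_succ', Nat.sub_add_cancel hrpos, hf1], by
    rw [← pow_succ, Nat.sub_add_cancel hrpos, hf1]⟩
  have hzval : (z : Matrix ι ι F) = aeval X f := rfl
  have hzr : z ^ r = 1 := Units.ext (by rw [Units.val_pow_eq_pow_val, hzval, hf1]; rfl)
  have hziso : z ∈ Cfsg.isometryGroup F Qf := by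
    rw [mem_iso_iff]
    intro v
    exact mem_isometry hQf (fun v => mem_iso_iff.1 (omega_le xh.2) v) hNF hXn hf3 hf4 v
  -- everything is a polynomial in `X`
  have hcommf : ∀ f₁ f₂ : F[X], aeval X f₁ * aeval X f₂ = aeval X f₂ * aeval X f₁ := by
    intro f₁ f₂
    rw [← map_mul, ← map_mul, mul_comm]
  have hcj : ∀ g : F[X], ((wh : GL ι F) : Matrix ι ι F) * aeval X g * (((wh : GL ι F)⁻¹ : GL ι F) : Matrix ι ι F) =
      aeval X (g.comp (Polynomial.X ^ k)) := by
    intro g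
    rw [← aeval_cj, ← hXk, aeval_comp, map_pow, aeval_X]
  obtain ⟨u, hu⟩ : ∃ u : GL ι F, u = z⁻¹ * (wh : GL ι F) * z * (wh : GL ι F)⁻¹ := ⟨_, rfl⟩
  have hu_mem : u ∈ Cfsg.Geo.omegaGL Qf := by
    have h1 := comm_mem (Qf := Qf) ((Cfsg.isometryGroup F Qf).inv_mem hziso) (omega_le wh.2)
    rw [inv_inv] at h1
    rw [hu]
    exact h1
  have hwz : (wh : GL ι F) * z * (wh : GL ι F)⁻¹ = z * u := by rw [hu]; group
  obtain ⟨fu, hfu⟩ : ∃ fu : F[X], (u : Matrix ι ι F) = aeval X fu := by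
    refine ⟨f ^ (r - 1) * f.comp (Polynomial.X ^ k), ?_⟩
    have h1 : (z⁻¹ : GL ι F) = z ^ (r - 1) := by
      rw [inv_eq_iff_mul_eq_one, ← pow_succ', Nat.sub_add_cancel hrpos, hzr]
    rw [hu, h1, map_mul, map_pow, ← hcj, Units.val_mul, Units.val_mul, Units.val_mul, Units.val_pow_eq_pow_val, hzval]
    simp only [mul_assoc]
  have hcomm_of : ∀ {a b : GL ι F} {f₁ f₂ : F[X]}, (a : Matrix ι ι F) = aeval X f₁ → (b : Matrix ι ι F) = aeval X f₂ →
      a * b = b * a := by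
    intro a b f₁ f₂ h1 h2
    apply Units.ext
    rw [Units.val_mul, Units.val_mul, h1, h2, hcommf]
  have hxX : ((xh : GL ι F) : Matrix ι ι F) = aeval X (Polynomial.X : F[X]) := by rw [aeval_X]
  have huz : u * z = z * u := hcomm_of hfu hzval
  have hux : u * (xh : GL ι F) = xh * u := hcomm_of hfu hxX
  have hur : u ^ r = 1 := by
    have h1 : (z * u) ^ r = 1 := by rw [← hwz, conj_pow, hzr, mul_one, mul_inv_cancel]
    rw [(show Commute z u from huz.symm).mul_pow, hzr, one_mul] at h1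
    exact h1
  have hu1 : u ≠ 1 := by
    intro he
    apply hf2
    have h1 : (wh : GL ι F) * z * (wh : GL ι F)⁻¹ = z := by rw [hwz, he, mul_one]
    have h2 := congrArg (fun y : GL ι F => (y : Matrix ι ι F)) h1
    simp only [Units.val_mul] at h2
    rw [hzval] at h2
    rw [hXk, aeval_cj]
    exact h2
  -- in `Q`
  have hscal : ∀ g : Cfsg.Geo.omegaGL Qf, m.π g = 1 → (g : GL ι F) ^ r = 1 → (g : GL ι F) = 1 := fun g h1 h2 =>
    hsc _ g.2 ((m.ker g).1 h1) r hrodd h2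
  obtain ⟨uS, huS⟩ : ∃ uS : Cfsg.Geo.omegaGL Qf, uS = ⟨u, hu_mem⟩ := ⟨_, rfl⟩
  have hux' : m.π uS * x = x * m.π uS := by
    rw [← hπx, ← map_mul, ← map_mul]
    rw [huS]
    exact congrArg m.π (Subtype.ext hux)
  have hwA : w ∈ A := S.le hwN
  have h1 : m.π uS * w * (m.π uS)⁻¹ ∈ A := S.cl h hux' hwA hwx
  -- the commutator
  obtain ⟨vS, hvS⟩ : ∃ vS : Cfsg.Geo.omegaGL Qf, vS = uS * wh * uS⁻¹ * wh⁻¹ := ⟨_, rfl⟩
  have hvA : m.π vS ∈ A := by
    rw [hvS, map_mul, map_mul, map_mul, map_inv, map_inv, hπw]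
    exact A.mul_mem h1 (A.inv_mem hwA)
  obtain ⟨fv, hfv⟩ : ∃ fv : F[X], (((wh : GL ι F) * u * (wh : GL ι F)⁻¹ : GL ι F) : Matrix ι ι F) = aeval X fv :=
    ⟨fu.comp (Polynomial.X ^ k), by rw [← hcj, Units.val_mul, Units.val_mul, hfu]⟩
  have hv : (vS : GL ι F) = u * ((wh : GL ι F) * u * (wh : GL ι F)⁻¹)⁻¹ := by
    rw [hvS, huS]
    push_cast
    group
  have hvr : (vS : GL ι F) ^ r = 1 := by
    rw [hv, (show Commute u ((wh : GL ι F) * u * (wh : GL ι F)⁻¹)⁻¹ from
      (show Commute u ((wh : GL ι F) * u * (wh : GL ι F)⁻¹) from hcomm_of hfu hfv).inv_right).mul_pow, hur, one_mul,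
      inv_pow, conj_pow, hur, mul_one, mul_inv_cancel, inv_one]
  have hvx : (vS : GL ι F) * xh = xh * vS := by
    rw [hv]
    exact ((show Commute u (xh : GL ι F) from hux).mul_left
      (show Commute ((wh : GL ι F) * u * (wh : GL ι F)⁻¹) (xh : GL ι F) from hcomm_of hfv hxX).inv_left).eq
  have hv1 : m.π vS = 1 := by
    apply S.eq_one hvA
    · rw [← hπx, ← map_mul, ← map_mul]
      exact congrArg m.π (Subtype.ext hvx)
    · rw [← map_pow, show vS ^ r = 1 from Subtype.ext hvr, map_one]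
  have hv2 := hscal vS hv1 hvr
  have huw : (wh : GL ι F) * u * (wh : GL ι F)⁻¹ = u := by
    rw [hv, mul_inv_eq_one] at hv2
    exact hv2.symm
  -- powers of `w`
  have hpow : ∀ j : ℕ, (wh : GL ι F) ^ j * z * ((wh : GL ι F) ^ j)⁻¹ = z * u ^ j := by
    intro j
    induction j with
    | zero => simp
    | succ j ih =>
      have e1 : (wh : GL ι F) ^ (j + 1) * z * ((wh : GL ι F) ^ (j + 1))⁻¹ =
          wh * ((wh : GL ι F) ^ j * z * ((wh : GL ι F) ^ j)⁻¹) * (wh : GL ι F)⁻¹ := by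
        rw [pow_succ']
        group
      rw [e1, ih]
      have e2 : (wh : GL ι F) * (z * u ^ j) * (wh : GL ι F)⁻¹ =
          (wh * z * (wh : GL ι F)⁻¹) * (wh * u ^ j * (wh : GL ι F)⁻¹) := by group
      rw [e2, hwz, ← conj_pow, huw, mul_assoc, ← pow_succ']
  have h2 := hpow (orderOf w)
  have h3 : (wh : GL ι F) ^ orderOf w ∈ Cfsg.Geo.scalars ι F := by
    have h4 : m.π (wh ^ orderOf w) = 1 := by rw [map_pow, hπw, pow_orderOf_eq_one]
    exact (m.ker _).1 h4
  rw [scal_comm h3, mul_inv_cancel_right] at h2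
  have h4 : u ^ orderOf w = 1 := mul_eq_left.1 h2.symm
  apply hu1
  have h5 : orderOf u ∣ Nat.gcd r (orderOf w) :=
    Nat.dvd_gcd (orderOf_dvd_of_pow_eq_one hur) (orderOf_dvd_of_pow_eq_one h4)
  rw [Nat.Coprime.gcd_eq_one ((Nat.Prime.coprime_iff_not_dvd S.r_prime).2 hwr), Nat.dvd_one, orderOf_eq_one_iff] at h5
  exact h5

end orth

end Cfsg.Agent.H476.EPX
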