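import Cfsg.Agent.H476.EPX.Lin
import Cfsg.Prelude.Def_GeometricClasses

/-!
# The isometries in the algebra generated by a semisimple isometry (helper476)

`mem_isometry` : `f(x) f(x⁻¹) = 1` gives an isometry of the quadratic form (every characteristic);
`exists_isometry` : the isometry of prime order.
-/

set_option autoImplicit false

namespace Cfsg.Agent.H476.EPX

open Polynomial Matrix
open scoped MatrixGroups

variable {F : Type*} [Field F] {ι : Type} [Fintype ι] [DecidableEq ι]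

theorem mem_iso_iff {Q : (ι → F) → F} {g : GL ι F} :
    g ∈ Cfsg.isometryGroup F Q ↔ ∀ v, Q ((g : Matrix ι ι F) *ᵥ v) = Q v :=
  ⟨fun h v => h v v, fun h v _ => h v⟩

theorem adj {B : (ι → F) → (ι → F) → F} (hB : Cfsg.Geo.IsBilinearForm B) {X : Matrix ι ι F}
    (hX : ∀ v w, B (X *ᵥ v) (X *ᵥ w) = B v w) {N : ℕ} (hN : N ≠ 0) (hXN : X ^ N = 1) (f : F[X]) (v w : ι → F) :
    B v ((aeval X f) *ᵥ w) = B ((aeval (X ^ (N - 1)) f) *ᵥ v) w := by
  have h1 : ∀ v w, B v (X *ᵥ w) = B (X ^ (N - 1) *ᵥ v) w := by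
    intro v w
    rw [← hX (X ^ (N - 1) *ᵥ v) w, Matrix.mulVec_mulVec, ← pow_succ', Nat.sub_add_cancel (by omega), hXN,
      Matrix.one_mulVec]
  have h2 : ∀ (n : ℕ) v w, B v (X ^ n *ᵥ w) = B ((X ^ (N - 1)) ^ n *ᵥ v) w := by
    intro n
    induction n with
    | zero => intro v w; simp
    | succ n ih =>
      intro v w
      rw [pow_succ, ← Matrix.mulVec_mulVec, ih, h1, Matrix.mulVec_mulVec, ← pow_succ']
  induction f using Polynomial.induction_on' with
  | add p q hp hq =>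
    rw [map_add, map_add, Matrix.add_mulVec, Matrix.add_mulVec, hB.add_right, hB.add_left, hp, hq]
  | monomial n a =>
    rw [aeval_monomial, aeval_monomial, ← Algebra.smul_def, ← Algebra.smul_def, Matrix.smul_mulVec,
      Matrix.smul_mulVec, hB.smul_right, hB.smul_left, h2]

theorem aeval_fix {X : Matrix ι ι F} {v : ι → F} (hv : X *ᵥ v = v) (f : F[X]) : (aeval X f) *ᵥ v = f.eval 1 • v := by
  have h2 : ∀ n : ℕ, X ^ n *ᵥ v = v := by
    intro n
    induction n with
    | zero => simp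
    | succ n ih => rw [pow_succ, ← Matrix.mulVec_mulVec, hv, ih]
  induction f using Polynomial.induction_on' with
  | add p q hp hq => rw [map_add, Matrix.add_mulVec, hp, hq, eval_add, add_smul]
  | monomial n a =>
    rw [aeval_monomial, ← Algebra.smul_def, Matrix.smul_mulVec, h2, eval_monomial, one_pow, mul_one]

/-- **The isometries in `F[X]`.** -/
theorem mem_isometry {Q : (ι → F) → F} (hQ : Cfsg.Geo.IsNondegenerateQuadraticForm Q) {X : Matrix ι ι F}
    (hX : ∀ v, Q (X *ᵥ v) = Q v) {N : ℕ} (hN : (N : F) ≠ 0) (hXN : X ^ N = 1) {f : F[X]}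
    (hf : aeval X f * aeval (X ^ (N - 1)) f = 1) (hf1 : (minpoly F X).eval 1 = 0 → f.eval 1 = 1) (v : ι → F) :
    Q ((aeval X f) *ᵥ v) = Q v := by
  have hN0 : N ≠ 0 := by rintro rfl; exact hN Nat.cast_zero
  have hadd : ∀ v w, Q (v + w) = Q v + Q w + QuadraticMap.polar Q v w := by
    intro v w
    rw [QuadraticMap.polar]
    ring
  have hBX : ∀ v w, QuadraticMap.polar Q (X *ᵥ v) (X *ᵥ w) = QuadraticMap.polar Q v w := by
    intro v w
    rw [QuadraticMap.polar, QuadraticMap.polar, ← Matrix.mulVec_add, hX, hX, hX]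
  have hBz : ∀ v w, QuadraticMap.polar Q ((aeval X f) *ᵥ v) ((aeval X f) *ᵥ w) = QuadraticMap.polar Q v w := by
    intro v w
    rw [adj hQ.polar_bilinear hBX hN0 hXN, Matrix.mulVec_mulVec, mul_eq_one_comm.1 hf, Matrix.one_mulVec]
  have hDadd : ∀ v w, Q ((aeval X f) *ᵥ (v + w)) - Q (v + w) =
      (Q ((aeval X f) *ᵥ v) - Q v) + (Q ((aeval X f) *ᵥ w) - Q w) := by
    intro v w
    rw [Matrix.mulVec_add, hadd, hadd, hBz]
    ring
  have hcomm : ∀ n : ℕ, aeval X f * X ^ n = X ^ n * aeval X f := by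
    intro n
    have h1 := congrArg (aeval X) (mul_comm f (Polynomial.X ^ n))
    rwa [map_mul, map_mul, map_pow, aeval_X] at h1
  have hXn : ∀ (n : ℕ) v, Q (X ^ n *ᵥ v) = Q v := by
    intro n
    induction n with
    | zero => intro v; simp
    | succ n ih => intro v; rw [pow_succ, ← Matrix.mulVec_mulVec, ih, hX]
  have hDX : ∀ (n : ℕ) v, Q ((aeval X f) *ᵥ (X ^ n *ᵥ v)) - Q (X ^ n *ᵥ v) = Q ((aeval X f) *ᵥ v) - Q v := by
    intro n v
    rw [Matrix.mulVec_mulVec, hcomm, ← Matrix.mulVec_mulVec, hXn, hXn]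
  have hDsum : ∀ n : ℕ, Q ((aeval X f) *ᵥ (∑ i ∈ Finset.range n, X ^ i *ᵥ v)) - Q (∑ i ∈ Finset.range n, X ^ i *ᵥ v) =
      n * (Q ((aeval X f) *ᵥ v) - Q v) := by
    intro n
    induction n with
    | zero => simp
    | succ n ih =>
      rw [Finset.sum_range_succ, hDadd, ih, hDX]
      push_cast
      ring
  have hfix : X *ᵥ (∑ i ∈ Finset.range N, X ^ i *ᵥ v) = ∑ i ∈ Finset.range N, X ^ i *ᵥ v := by
    rw [Matrix.mulVec_sum]
    have h1 : ∀ i, X *ᵥ (X ^ i *ᵥ v) = X ^ (i + 1) *ᵥ v := fun i => by rw [Matrix.mulVec_mulVec, ← pow_succ']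
    simp only [h1]
    have h2 := Finset.sum_range_succ (fun i => X ^ i *ᵥ v) N
    rw [Finset.sum_range_succ' (fun i => X ^ i *ᵥ v) N, hXN, pow_zero] at h2
    exact add_right_cancel h2
  have hz : (aeval X f) *ᵥ (∑ i ∈ Finset.range N, X ^ i *ᵥ v) = ∑ i ∈ Finset.range N, X ^ i *ᵥ v := by
    set s := ∑ i ∈ Finset.range N, X ^ i *ᵥ v with hs
    by_cases h0 : s = 0
    · rw [h0, Matrix.mulVec_zero]
    · have h1 := aeval_fix hfix (minpoly F X)
      rw [minpoly.aeval, Matrix.zero_mulVec] at h1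
      have h2 := (smul_eq_zero.1 h1.symm).resolve_right h0
      rw [aeval_fix hfix f, hf1 h2, one_smul]
  have h1 := hDsum N
  rw [hz, sub_self] at h1
  have h2 := (mul_eq_zero.1 h1.symm).resolve_left hN
  exact sub_eq_zero.1 h2

end Cfsg.Agent.H476.EPX
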