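import Mathlib.FieldTheory.Finite.Basic
import Mathlib.FieldTheory.IsAlgClosed.AlgebraicClosure
import Mathlib.FieldTheory.Separable
import Mathlib.RingTheory.RootsOfUnity.PrimitiveRoots
import Mathlib.RingTheory.IntegralDomain

/-!
# An element of prime order in the algebra generated by a semisimple element (helper476)

`exists_poly` : `x` of order dividing `N ∣ q ^ d + 1`, all prime divisors of `N` and the prime `r ∣ q ^ d + 1` of order
`2 d` modulo `q`; `x ^ k ≠ x` conjugate to `x`: some polynomial `f` gives `f(x) ^ r = 1`, `f(x) f(x⁻¹) = 1`,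
`f(x ^ k) ≠ f(x)`.
-/

set_option autoImplicit false

namespace Cfsg.Agent.H476.EPX

open Polynomial

variable {F : Type*} [Field F]

/-- a separable polynomial divides a polynomial vanishing at its roots -/
theorem dvd_of_roots {P g : F[X]} (hP : P.Separable) (h : ∀ μ : AlgebraicClosure F, aeval μ P = 0 → aeval μ g = 0) :
    P ∣ g := by
  by_cases hg : g = 0
  · rw [hg]; exact dvd_zero _
  rw [← Polynomial.map_dvd_map' (algebraMap F (AlgebraicClosure F))]
  have hP0 : P ≠ 0 := hP.ne_zero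
  have hs : (P.map (algebraMap F (AlgebraicClosure F))).Splits := IsAlgClosed.splits _
  have hg' : g.map (algebraMap F (AlgebraicClosure F)) ≠ 0 := (Polynomial.map_ne_zero_iff
    (algebraMap F (AlgebraicClosure F)).injective).2 hg
  have hP' : P.map (algebraMap F (AlgebraicClosure F)) ≠ 0 := (Polynomial.map_ne_zero_iff
    (algebraMap F (AlgebraicClosure F)).injective).2 hP0
  rw [hs.eq_prod_roots, Polynomial.C_mul_dvd (leadingCoeff_ne_zero.2 hP'),
    Multiset.prod_X_sub_C_dvd_iff_le_roots hg', Multiset.le_iff_subset (nodup_roots hP.map)]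
  intro μ hμ
  rw [mem_roots hP', IsRoot.def, eval_map_algebraMap] at hμ
  rw [mem_roots hg', IsRoot.def, eval_map_algebraMap]
  exact h μ hμ

section field

open IntermediateField

theorem exists_aeval {lam a : AlgebraicClosure F} (ha : a ∈ F⟮lam⟯) : ∃ g : F[X], aeval lam g = a := by
  have h1 : a ∈ (F⟮lam⟯).toSubalgebra := ha
  rw [IntermediateField.adjoin_simple_toSubalgebra_of_isAlgebraic (Algebra.IsAlgebraic.isAlgebraic lam),
    Algebra.adjoin_singleton_eq_range_aeval] at h1
  exact h1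

variable [Fintype F]

theorem frob_aeval (μ : AlgebraicClosure F) (g : F[X]) (m : ℕ) :
    aeval (μ ^ Fintype.card F ^ m) g = (aeval μ g) ^ Fintype.card F ^ m := by
  induction m with
  | zero => simp
  | succ m ih =>
    rw [pow_succ, pow_mul, pow_mul, ← ih]
    have h2 : ∀ ν : AlgebraicClosure F, aeval (ν ^ Fintype.card F) g = (aeval ν g) ^ Fintype.card F := by
      intro ν
      have h3 := (Polynomial.aeval_algHom_apply (FiniteField.frobeniusAlgHom F (AlgebraicClosure F)) ν g)
      rw [FiniteField.coe_frobeniusAlgHom] at h3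
      exact h3
    exact h2 _

theorem card_adjoin {lam : AlgebraicClosure F} {n : ℕ} (hn : n ≠ 0) (h1 : lam ^ Fintype.card F ^ n = lam)
    (h2 : ∀ j, 0 < j → j < n → lam ^ Fintype.card F ^ j ≠ lam) : Nat.card F⟮lam⟯ = Fintype.card F ^ n := by
  classical
  have hq : 1 < Fintype.card F := Fintype.one_lt_card
  have hfd : FiniteDimensional F F⟮lam⟯ := IntermediateField.adjoin.finiteDimensional
    (Algebra.IsAlgebraic.isAlgebraic lam).isIntegral
  have hfin : Finite F⟮lam⟯ := Module.finite_of_finite F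
  have hft : Fintype F⟮lam⟯ := Fintype.ofFinite _
  have hcard : Nat.card F⟮lam⟯ = Fintype.card F ^ Module.finrank F F⟮lam⟯ := by
    rw [Module.natCard_eq_pow_finrank (K := F), Nat.card_eq_fintype_card]
  have hpos : 0 < Module.finrank F F⟮lam⟯ := Module.finrank_pos
  have h3 : lam ^ Fintype.card F ^ Module.finrank F F⟮lam⟯ = lam := by
    rw [← hcard, Nat.card_eq_fintype_card]
    have := FiniteField.pow_card (⟨lam, IntermediateField.mem_adjoin_simple_self F lam⟩ : F⟮lam⟯)
    exact congrArg Subtype.val this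
  have h4 : n ≤ Module.finrank F F⟮lam⟯ := by
    by_contra hcon
    exact h2 _ hpos (not_le.1 hcon) h3
  have h5 : Nat.card F⟮lam⟯ ≤ Fintype.card F ^ n := by
    have hne : (X ^ Fintype.card F ^ n - X : (AlgebraicClosure F)[X]) ≠ 0 :=
      FiniteField.X_pow_card_pow_sub_X_ne_zero _ hn hq
    have h6 : ∀ a : F⟮lam⟯, (a : AlgebraicClosure F) ∈ (X ^ Fintype.card F ^ n - X : (AlgebraicClosure F)[X]).roots.toFinset := by
      intro a
      rw [Multiset.mem_toFinset, mem_roots hne, IsRoot.def, eval_sub, eval_pow, eval_X, sub_eq_zero]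
      obtain ⟨g, hg⟩ := exists_aeval a.2
      rw [← hg, ← frob_aeval, h1]
    have h7 : Fintype.card F⟮lam⟯ ≤ (X ^ Fintype.card F ^ n - X : (AlgebraicClosure F)[X]).roots.toFinset.card := by
      rw [← Fintype.card_coe]
      exact Fintype.card_le_of_injective (fun a => ⟨_, h6 a⟩) (fun a b e => Subtype.ext (by simpa using e))
    rw [Nat.card_eq_fintype_card]
    refine (h7.trans (Multiset.toFinset_card_le _)).trans ((card_roots' _).trans ?_)
    rw [FiniteField.X_pow_card_pow_sub_X_natDegree_eq _ hn hq]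
  rw [hcard] at h5 ⊢
  rw [le_antisymm ((Nat.pow_le_pow_iff_right hq).1 h5) h4]

/-- an element of prime order generating the same field -/
theorem exists_theta {lam : AlgebraicClosure F} {n r : ℕ} (hn : n ≠ 0) (h1 : lam ^ Fintype.card F ^ n = lam)
    (h2 : ∀ j, 0 < j → j < n → lam ^ Fintype.card F ^ j ≠ lam) (hr : r.Prime) (hrn : r ∣ Fintype.card F ^ n - 1)
    (hrj : ∀ j, 0 < j → j < n → ¬ r ∣ Fintype.card F ^ j - 1) :
    ∃ (g G : F[X]), aeval (aeval lam g) G = lam ∧ (aeval lam g) ^ r = 1 ∧ aeval lam g ≠ 1 := by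
  classical
  have hfd : FiniteDimensional F F⟮lam⟯ := IntermediateField.adjoin.finiteDimensional
    (Algebra.IsAlgebraic.isAlgebraic lam).isIntegral
  have hfin : Finite F⟮lam⟯ := Module.finite_of_finite F
  have hft : Fintype F⟮lam⟯ := Fintype.ofFinite _
  have hc := card_adjoin hn h1 h2
  have hp : Fact r.Prime := ⟨hr⟩
  obtain ⟨t, ht⟩ := exists_prime_orderOf_dvd_card' (G := (F⟮lam⟯)ˣ) r (by
    rw [Nat.card_units, hc]; exact hrn)
  obtain ⟨g, hg⟩ := exists_aeval (lam := lam) (a := ((t : F⟮lam⟯) : AlgebraicClosure F)) (t : F⟮lam⟯).2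
  set th : AlgebraicClosure F := ((t : F⟮lam⟯) : AlgebraicClosure F) with hth
  have hpow : ∀ k : ℕ, th ^ k = 1 ↔ r ∣ k := by
    intro k
    rw [← ht, orderOf_dvd_iff_pow_eq_one, Units.ext_iff, Subtype.ext_iff]
    push_cast
    rfl
  have hne0 : th ≠ 0 := by
    intro h0
    have := (hpow r).2 dvd_rfl
    rw [h0, zero_pow hr.ne_zero] at this
    exact zero_ne_one this
  have hq : ∀ j, th ^ Fintype.card F ^ j = th ↔ r ∣ Fintype.card F ^ j - 1 := by
    intro j
    have h3 : 1 ≤ Fintype.card F ^ j := Nat.one_le_pow _ _ Fintype.card_pos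
    rw [← hpow]
    conv_lhs => rw [show Fintype.card F ^ j = (Fintype.card F ^ j - 1) + 1 by omega, pow_succ]
    constructor
    · intro h
      exact mul_right_cancel₀ hne0 (h.trans (one_mul th).symm)
    · intro h
      rw [h, one_mul]
  have hc2 := card_adjoin hn ((hq n).2 hrn) (fun j hj hjn h => hrj j hj hjn ((hq j).1 h))
  have hle : F⟮th⟯ ≤ F⟮lam⟯ := by
    rw [IntermediateField.adjoin_simple_le_iff]
    exact (t : F⟮lam⟯).2
  have hmem : lam ∈ F⟮th⟯ := by
    have h3 : (F⟮th⟯ : Set (AlgebraicClosure F)) = F⟮lam⟯ := by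
      refine Set.eq_of_subset_of_ncard_le hle ?_ (Set.toFinite _)
      have e1 : (F⟮lam⟯ : Set (AlgebraicClosure F)).ncard = Nat.card F⟮lam⟯ := rfl
      have e2 : (F⟮th⟯ : Set (AlgebraicClosure F)).ncard = Nat.card F⟮th⟯ := rfl
      rw [e1, e2, hc, hc2]
    have h4 : lam ∈ (F⟮lam⟯ : Set (AlgebraicClosure F)) := IntermediateField.mem_adjoin_simple_self F lam
    rw [← h3] at h4
    exact h4
  obtain ⟨G, hG⟩ := exists_aeval hmem
  refine ⟨g, G, ?_, ?_, ?_⟩
  · rw [hg]; exact hG
  · rw [hg]; exact (hpow r).2 dvd_rfl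
  · rw [hg]
    intro h
    have h3 := (hpow 1).1 (by rw [pow_one]; exact h)
    exact hr.one_lt.ne' (Nat.dvd_one.1 h3)

/-- **the polynomial** -/
theorem exists_poly {R : Type*} [Ring R] [Algebra F R] {x : R} {N d r k : ℕ} (hx : x ^ N = 1) (hd : 0 < d)
    (hN : N ∣ Fintype.card F ^ d + 1) (hN1 : ∀ j, 0 < j → j < 2 * d → Nat.Coprime N (Fintype.card F ^ j - 1))
    (hr : r.Prime) (hrd : r ∣ Fintype.card F ^ d + 1) (hrj : ∀ j, 0 < j → j < 2 * d → ¬ r ∣ Fintype.card F ^ j - 1)
    (hk : x ^ k ≠ x) (hkc : ∀ g : F[X], aeval x g = 0 → aeval (x ^ k) g = 0) :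
    ∃ f : F[X], (aeval x f) ^ r = 1 ∧ aeval (x ^ k) f ≠ aeval x f ∧ aeval x f * aeval (x ^ (N - 1)) f = 1 ∧
      ((minpoly F x).eval 1 = 0 → f.eval 1 = 1) := by
  classical
  have hN0 : N ≠ 0 := by
    rintro rfl
    have := Nat.eq_zero_of_zero_dvd hN
    omega
  have hq1 : ∀ j, 1 ≤ Fintype.card F ^ j := fun j => Nat.one_le_pow _ _ Fintype.card_pos
  set P := minpoly F x with hPdef
  have hPdvd : ∀ g : F[X], aeval x g = 0 ↔ P ∣ g := fun g => minpoly.dvd_iff.symm
  have hPN : P ∣ X ^ N - C 1 := by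
    rw [← hPdvd]
    simp [hx]
  have hNF : (N : F) ≠ 0 := by
    intro h0
    obtain ⟨c, hc⟩ := hN
    have h1 : ((Fintype.card F ^ d + 1 : ℕ) : F) = 0 := by rw [hc]; push_cast; rw [h0, zero_mul]
    push_cast at h1
    rw [Nat.cast_card_eq_zero, zero_pow hd.ne', zero_add] at h1
    exact one_ne_zero h1
  have hsep : P.Separable := (separable_X_pow_sub_C (1 : F) hNF one_ne_zero).of_dvd hPN
  have hroot : ∀ μ : AlgebraicClosure F, aeval μ P = 0 → μ ^ N = 1 := by
    intro μ hμ
    obtain ⟨c, hc⟩ := hPN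
    have h1 := congrArg (aeval μ) hc
    rw [map_mul, hμ, zero_mul, map_sub, map_pow, aeval_X, aeval_C, map_one, sub_eq_zero] at h1
    exact h1
  -- the eigenvalue
  obtain ⟨lam, hlP, hlk⟩ : ∃ lam : AlgebraicClosure F, aeval lam P = 0 ∧ lam ^ k ≠ lam := by
    by_contra hcon
    push Not at hcon
    apply hk
    have h1 : P ∣ X ^ k - X := dvd_of_roots hsep fun μ hμ => by
      rw [map_sub, map_pow, aeval_X, hcon μ hμ, sub_self]
    have h2 := (hPdvd _).2 h1
    rw [map_sub, map_pow, aeval_X, sub_eq_zero] at h2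
    exact h2
  have hlN := hroot lam hlP
  have hl1 : lam ≠ 1 := by rintro rfl; exact hlk (one_pow k)
  have hl0 : lam ≠ 0 := by
    rintro rfl
    rw [zero_pow hN0] at hlN
    exact zero_ne_one hlN
  have hpow : ∀ μ : AlgebraicClosure F, μ ≠ 0 → ∀ j, (μ ^ Fintype.card F ^ j = μ ↔ μ ^ (Fintype.card F ^ j - 1) = 1) := by
    intro μ hμ j
    have h3 := hq1 j
    conv_lhs => rw [show Fintype.card F ^ j = (Fintype.card F ^ j - 1) + 1 by omega, pow_succ]
    constructor
    · intro h
      exact mul_right_cancel₀ hμ (h.trans (one_mul μ).symm)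
    · intro h
      rw [h, one_mul]
  have hdvd2 : ∀ m, m ∣ Fintype.card F ^ d + 1 → m ∣ Fintype.card F ^ (2 * d) - 1 := by
    intro m hm
    refine hm.trans ⟨Fintype.card F ^ d - 1, ?_⟩
    have := hq1 d
    have h4 := hq1 (2 * d)
    zify [this, h4]
    ring
  have h1 : lam ^ Fintype.card F ^ (2 * d) = lam := by
    rw [hpow lam hl0]
    obtain ⟨c, hc⟩ := hdvd2 N hN
    rw [hc, pow_mul, hlN, one_pow]
  have h2 : ∀ j, 0 < j → j < 2 * d → lam ^ Fintype.card F ^ j ≠ lam := by
    intro j hj hj2 he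
    rw [hpow lam hl0] at he
    apply hl1
    have h3 : orderOf lam ∣ Nat.gcd N (Fintype.card F ^ j - 1) :=
      Nat.dvd_gcd (orderOf_dvd_of_pow_eq_one hlN) (orderOf_dvd_of_pow_eq_one he)
    rw [(hN1 j hj hj2), Nat.dvd_one, orderOf_eq_one_iff] at h3
    exact h3
  obtain ⟨F1, G, hG, hF1, hF1'⟩ := exists_theta (by omega) h1 h2 hr (hdvd2 r hrd) hrj
  -- the factorisation
  set g := minpoly F lam with hg
  have hgdvd : ∀ p : F[X], aeval lam p = 0 ↔ g ∣ p := fun p => minpoly.dvd_iff.symm
  obtain ⟨h, hh⟩ := (hgdvd P).1 hlP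
  have hcop : IsCoprime g h := by
    rw [hh] at hsep
    exact hsep.isCoprime
  obtain ⟨u, v, huv⟩ := hcop
  have hlift : ∀ p : F[X], aeval lam p = 0 → ∀ μ : AlgebraicClosure F, aeval μ g = 0 → aeval μ p = 0 := by
    intro p hp μ hμ
    obtain ⟨c, hc⟩ := (hgdvd p).1 hp
    rw [hc, map_mul, hμ, zero_mul]
  have hcase : ∀ μ : AlgebraicClosure F, aeval μ P = 0 → aeval μ g = 0 ∨ aeval μ h = 0 := by
    intro μ hμ
    rw [hh, map_mul] at hμ
    exact mul_eq_zero.1 hμ
  have hfg : ∀ μ : AlgebraicClosure F, aeval μ g = 0 → aeval μ (1 + v * h * (F1 - 1)) = aeval μ F1 := by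
    intro μ hμ
    have h3 := congrArg (aeval μ) huv
    rw [map_add, map_mul, hμ, mul_zero, zero_add, map_one] at h3
    rw [map_add, map_mul, h3, one_mul, map_sub, map_one]
    ring
  have hfh : ∀ μ : AlgebraicClosure F, aeval μ h = 0 → aeval μ (1 + v * h * (F1 - 1)) = 1 := by
    intro μ hμ
    rw [map_add, map_mul, map_mul, hμ, mul_zero, zero_mul, map_one, add_zero]
  have hgl : aeval lam g = 0 := minpoly.aeval F lam
  -- values at the roots
  have hval : ∀ μ : AlgebraicClosure F, aeval μ P = 0 → (aeval μ (1 + v * h * (F1 - 1))) ^ r = 1 := by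
    intro μ hμ
    rcases hcase μ hμ with h3 | h3
    · rw [hfg μ h3]
      have h4 := hlift (F1 ^ r - 1) (by rw [map_sub, map_pow, hF1, map_one, sub_self]) μ h3
      rw [map_sub, map_pow, map_one, sub_eq_zero] at h4
      exact h4
    · rw [hfh μ h3, one_pow]
  refine ⟨1 + v * h * (F1 - 1), ?_, ?_, ?_, ?_⟩
  · have h3 : P ∣ (1 + v * h * (F1 - 1)) ^ r - 1 := dvd_of_roots hsep fun μ hμ => by
      rw [map_sub, map_pow, hval μ hμ, map_one, sub_self]
    have h4 := (hPdvd _).2 h3
    rw [map_sub, map_pow, map_one, sub_eq_zero] at h4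
    exact h4
  · intro he
    have h3 : P ∣ (1 + v * h * (F1 - 1)).comp (X ^ k) - (1 + v * h * (F1 - 1)) := by
      rw [← hPdvd, map_sub, aeval_comp, map_pow, aeval_X, he, sub_self]
    obtain ⟨c, hc⟩ := h3
    have h4 := congrArg (aeval lam) hc
    rw [map_mul, hlP, zero_mul, map_sub, aeval_comp, map_pow, aeval_X, sub_eq_zero, hfg lam hgl] at h4
    have h5 : aeval (lam ^ k) P = 0 := by
      have h6 : P ∣ P.comp (X ^ k) := by
        rw [← hPdvd, aeval_comp, map_pow, aeval_X]
        exact hkc _ (minpoly.aeval F x)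
      obtain ⟨c, hc⟩ := h6
      have h7 := congrArg (aeval lam) hc
      rw [map_mul, hlP, zero_mul, aeval_comp, map_pow, aeval_X] at h7
      exact h7
    rcases hcase _ h5 with h6 | h6
    · rw [hfg _ h6] at h4
      apply hlk
      have h7 := hlift (G.comp F1 - X) (by rw [map_sub, aeval_comp, hG, aeval_X, sub_self]) _ h6
      rw [map_sub, aeval_comp, aeval_X, h4, hG, sub_eq_zero] at h7
      exact h7.symm
    · rw [hfh _ h6] at h4
      exact hF1' h4.symm
  · have h3 : P ∣ (1 + v * h * (F1 - 1)) * (1 + v * h * (F1 - 1)).comp (X ^ (N - 1)) - 1 :=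
      dvd_of_roots hsep fun μ hμ => by
        have hμN := hroot μ hμ
        have hμ0 : μ ≠ 0 := by
          rintro rfl
          rw [zero_pow hN0] at hμN
          exact zero_ne_one hμN
        have h4 : μ ^ (N - 1) = μ ^ Fintype.card F ^ d := by
          apply mul_right_cancel₀ hμ0
          rw [← pow_succ, ← pow_succ, Nat.sub_add_cancel (by omega), hμN]
          obtain ⟨c, hc⟩ := hN
          rw [hc, pow_mul, hμN, one_pow]
        have h5 := hval μ hμ
        rw [map_sub, map_mul, aeval_comp, map_pow, aeval_X, h4, frob_aeval, ← pow_succ', map_one, sub_eq_zero]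
        obtain ⟨c, hc⟩ := hrd
        rw [hc, pow_mul, h5, one_pow]
    have h4 := (hPdvd _).2 h3
    rw [map_sub, map_mul, aeval_comp, map_pow, aeval_X, map_one, sub_eq_zero] at h4
    exact h4
  · intro hP1
    have h3 : aeval (1 : AlgebraicClosure F) P = 0 := by
      have := Polynomial.aeval_algebraMap_apply (AlgebraicClosure F) (1 : F) P
      rw [map_one, Polynomial.coe_aeval_eq_eval, hP1, map_zero] at this
      exact this
    have h4 : aeval (1 : AlgebraicClosure F) h = 0 := by
      refine (hcase _ h3).resolve_left fun h5 => ?_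
      -- `g = X - 1`
      have h6 : g ∣ X - C 1 := by
        have h7 : (X - C (1 : F)) ∣ g := by
          rw [dvd_iff_isRoot, IsRoot.def]
          have := Polynomial.aeval_algebraMap_apply (AlgebraicClosure F) (1 : F) g
          rw [map_one, h5, Polynomial.coe_aeval_eq_eval] at this
          exact (FaithfulSMul.algebraMap_injective F (AlgebraicClosure F)) (this.symm.trans (map_zero _).symm)
        have hirr : Irreducible g := minpoly.irreducible (Algebra.IsAlgebraic.isAlgebraic lam).isIntegral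
        exact ((irreducible_X_sub_C (1 : F)).associated_of_dvd hirr h7).symm.dvd
      obtain ⟨c, hc⟩ := h6
      have h7 := congrArg (aeval lam) hc
      rw [map_mul, hgl, zero_mul, map_sub, aeval_X, aeval_C, map_one, sub_eq_zero] at h7
      exact hl1 h7
    have h5 := hfh 1 h4
    have h6 := Polynomial.aeval_algebraMap_apply (AlgebraicClosure F) (1 : F) (1 + v * h * (F1 - 1))
    rw [map_one, h5, Polynomial.coe_aeval_eq_eval] at h6
    exact (FaithfulSMul.algebraMap_injective F (AlgebraicClosure F)) (h6.symm.trans (map_one _).symm)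

end field

end Cfsg.Agent.H476.EPX
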