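import Cfsg.Agent.H476.EPX.Eng
import Cfsg.Agent.H419.EP.Soc
import Cfsg.Agent.H563.KG.Ncl
import Cfsg.Agent.H394.Wei.Norm
import Cfsg.Agent.H129.CycT2
import Cfsg.Agent.S1071
import Cfsg.Agent.S1067
import Cfsg.Agent.S2129

/-!
# S3499: `³D₄(q₀)` in orthogonal groups over the field with `q₀ ^ 3` elements (helper476)

`no_td4_of` : no extremely primitive group with orthogonal socle over `F`, `|F| = q₀ ^ 3`, has a point stabiliser with
socle `³D₄(q₀)`. The input `hkf` is `H349.KD4.kfull_TD4`.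
-/

set_option autoImplicit false

namespace Cfsg.Agent.H476.EPX

open Subgroup Cfsg.Lie Cfsg.Agent.H284 Cfsg.Agent.H419.EP Cfsg.Agent.H436 Cfsg.Agent.H563.KG
open scoped MatrixGroups

/-- an automorphism of prime order `r` prime to `|Out|` is inner -/
theorem mem_inn {Y : Type*} [Group Y] [Finite Y] {r : ℕ} (hr : r.Prime) (ho : ¬ r ∣ Nat.card (Cfsg.Out Y)) {σ : MulAut Y}
    (hσ : σ ^ r = 1) : σ ∈ (MulAut.conj : Y →* MulAut Y).range := by
  have h1 : orderOf (QuotientGroup.mk' (Cfsg.Inn Y) σ) ∣ r := orderOf_dvd_of_pow_eq_one (by rw [← map_pow, hσ, map_one])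
  have h2 : orderOf (QuotientGroup.mk' (Cfsg.Inn Y) σ) ∣ Nat.card (Cfsg.Out Y) := _root_.orderOf_dvd_natCard _
  rcases (Nat.dvd_prime hr).1 h1 with h3 | h3
  · rw [orderOf_eq_one_iff, QuotientGroup.mk'_apply, QuotientGroup.eq_one_iff] at h3
    exact h3
  · rw [h3] at h2
    exact absurd h2 ho

/-- elements of order `r` of `A` lie in the socle -/
theorem mem_of_out {Q : Type*} [Group Q] {A N : Subgroup Q} (hNA : N ≤ A) (hNn : ∀ a ∈ A, ∀ n ∈ N, a * n * a⁻¹ ∈ N)
    (hNc : ∀ a ∈ A, (∀ n ∈ N, a * n = n * a) → a = 1) {Y : Type*} [Group Y] [Finite Y] (e : N ≃* Y) {r : ℕ}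
    (hr : r.Prime) (ho : ¬ r ∣ Nat.card (Cfsg.Out Y)) {g : Q} (hg : g ∈ A) (hgr : g ^ r = 1) : g ∈ N := by
  have hn : (N.subgroupOf A).Normal := ⟨by
    rintro ⟨n, hn'⟩ hn ⟨a, ha⟩
    exact hNn a ha n hn⟩
  let E : (N.subgroupOf A) ≃* Y := (Subgroup.subgroupOfEquivOfLe hNA).trans e
  have h1 : (MulAut.congr E (MulAut.conjNormal (⟨g, hg⟩ : A))) ^ r = 1 := by
    rw [← map_pow, ← map_pow, show (⟨g, hg⟩ : A) ^ r = 1 from Subtype.ext hgr, map_one, map_one]
  obtain ⟨y, hy⟩ := mem_inn hr ho h1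
  have key : ∀ n : N.subgroupOf A, g * ((n : A) : Q) * g⁻¹ =
      ((E.symm y : A) : Q) * ((n : A) : Q) * ((E.symm y : A) : Q)⁻¹ := by
    intro n
    have h2 := DFunLike.congr_fun hy (E n)
    have h3 : MulAut.congr E (MulAut.conjNormal (⟨g, hg⟩ : A)) (E n) = E (MulAut.conjNormal (⟨g, hg⟩ : A) n) := by
      show E (MulAut.conjNormal (⟨g, hg⟩ : A) (E.symm (E n))) = _
      rw [E.symm_apply_apply]
    rw [h3, MulAut.conj_apply] at h2
    have h4 : y * E n * y⁻¹ = E (E.symm y * n * (E.symm y)⁻¹) := by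
      rw [map_mul, map_mul, map_inv, E.apply_symm_apply]
    rw [h4] at h2
    have h5 := congrArg (fun t : N.subgroupOf A => ((t : A) : Q)) (E.injective h2)
    simp only [MulAut.conjNormal_apply] at h5
    exact h5.symm
  have hEy : ((E.symm y : A) : Q) ∈ N := (E.symm y).2
  have h2 : ((E.symm y : A) : Q)⁻¹ * g = 1 := by
    apply hNc _ (A.mul_mem (A.inv_mem (hNA hEy)) hg)
    intro n hn'
    have h3 := key ⟨⟨n, hNA hn'⟩, hn'⟩
    have h4 : g * n * g⁻¹ = ((E.symm y : A) : Q) * n * ((E.symm y : A) : Q)⁻¹ := h3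
    calc ((E.symm y : A) : Q)⁻¹ * g * n = ((E.symm y : A) : Q)⁻¹ * (g * n * g⁻¹) * g := by group
      _ = n * (((E.symm y : A) : Q)⁻¹ * g) := by rw [h4]; group
  rw [inv_mul_eq_one] at h2
  rw [← h2]
  exact hEy

theorem td4_sub {q : ℕ} (hq : 1 ≤ q) : (q ^ 2 + 1) * (q ^ 4 - q ^ 2 + 1) = q ^ 6 + 1 := by
  have h : q ^ 2 ≤ q ^ 4 := Nat.pow_le_pow_right hq (by norm_num)
  zify [h]
  ring

/-- **`³D₄(q₀)` is not the socle of a point stabiliser**, given its overgroup theorem. -/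
theorem no_td4_of {Q : Type*} [Group Q] [Finite Q] {A : Subgroup Q} {Γ : Subgroup (MulAut Q)} (h : EPT A Γ)
    {F : Type*} [Field F] [Fintype F] {ι : Type} [Fintype ι] [DecidableEq ι] {Qf : (ι → F) → F}
    (hQf : Cfsg.Geo.IsNondegenerateQuadraticForm Qf) (m : Model Q (Cfsg.Geo.omegaGL Qf)) {K : Type} [Field K]
    [Fintype K] {p f : ℕ} (hp : p.Prime) (hf : 1 ≤ f) (hK : Fintype.card K = (p ^ f) ^ 3)
    (hF : Fintype.card F = (p ^ f) ^ 3)
    (hkf : ∀ M : Subgroup ↥(twistedD4 K (p ^ f)), (p ^ f) ^ 4 - (p ^ f) ^ 2 + 1 ∣ Nat.card M → M ≠ ⊤ →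
      Nat.card M ∣ 4 * ((p ^ f) ^ 4 - (p ^ f) ^ 2 + 1))
    {L : Type*} [Group L] (hA : HasSoc A L) (e : L ≃* ↥(twistedD4 K (p ^ f))) : False := by
  obtain ⟨q, hq⟩ : ∃ q, q = p ^ f := ⟨_, rfl⟩
  have hq2 : 2 ≤ q := by rw [hq]; exact hp.two_le.trans (Nat.le_self_pow (by omega) p)
  have hpp : IsPrimePow q := by rw [hq]; exact hp.isPrimePow.pow (by omega)
  rw [← hq] at hK hF hkf e
  obtain ⟨n, hn⟩ : ∃ n, n = q ^ 4 - q ^ 2 + 1 := ⟨_, rfl⟩
  rw [← hn] at hkf
  have hle : q ^ 2 ≤ q ^ 4 := Nat.pow_le_pow_right (by omega) (by norm_num)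
  -- the primes of `n`
  have hprim : ∀ t : ℕ, t.Prime → t ∣ n → Prim q 12 t := by
    intro t ht htn
    refine prim_of_dvd (Or.inr (Or.inr (Or.inl rfl))) (by omega) ht ?_
    rw [ncl12_eq, Ph, ← hn]
    exact htn
  obtain ⟨N, hNA, hNn, hNc, ⟨f1⟩⟩ := hA
  let E : N ≃* ↥(twistedD4 K q) := f1.trans e
  obtain ⟨hsim, hnab⟩ := Cfsg.Agent.S1071.result hpp hK
  -- the torus
  obtain ⟨T, hTc, hTn, -⟩ := Cfsg.Agent.H129.CycT.exact_tD4_12 hpp hK (N := n) (by
    rw [hn]; push_cast [hle]; ring)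
  obtain ⟨t, ht⟩ := hTc.exists_ofOrder_eq_natCard
  set x : Q := ((E.symm (t : ↥(twistedD4 K q)) : N) : Q) with hx
  have hxN : x ∈ N := (E.symm _).2
  have hox : orderOf x = n := by
    rw [hx, Subgroup.orderOf_coe, MulEquiv.orderOf_eq, Subgroup.orderOf_coe, ht, hTn]
  have hn13 : 13 ≤ n := by
    rw [hn]
    have h1 : 2 ^ 2 ≤ q ^ 2 := Nat.pow_le_pow_left hq2 2
    have h2 : q ^ 4 = q ^ 2 * q ^ 2 := by ring
    have h3 : 4 * q ^ 2 ≤ q ^ 2 * q ^ 2 := Nat.mul_le_mul_right _ h1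
    omega
  have hcardN : Nat.card N = n * (q ^ 12 * (q ^ 2 - 1) * (q ^ 6 - 1) * (q ^ 4 + q ^ 2 + 1)) := by
    rw [Nat.card_congr E.toEquiv, Cfsg.Agent.S1067.result hpp hK, hn]
    have h1 : q ^ 8 + q ^ 4 + 1 = (q ^ 4 - q ^ 2 + 1) * (q ^ 4 + q ^ 2 + 1) := by
      zify [hle]
      ring
    rw [h1]
    ring
  have hnodd : ∀ t : ℕ, t.Prime → t ∣ n → t ≠ 2 := by
    intro t ht htn h2
    have h3 := (hprim t ht htn).odd (by norm_num)
    omega
  have hoddn : Odd n := by
    rw [← Nat.not_even_iff_odd]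
    intro he
    exact hnodd 2 Nat.prime_two he.two_dvd rfl
  -- the prime `r`
  obtain ⟨r, hr⟩ := exists_prim (q := p) (e := 4 * f) hp.two_le (by omega) (by omega)
  have hr' := hr.prime
  have hrq : ∀ j, r ∣ q ^ j - 1 ↔ 4 ∣ j := by
    intro j
    rw [hq, ← pow_mul, hr.dvd_iff, mul_comm 4 f]
    exact Nat.mul_dvd_mul_iff_left (by omega)
  have hr4 : 4 * f + 1 ≤ r := by
    have hF' := Fact.mk hr'
    have h1 : r ∣ p ^ (r - 1) - 1 := by
      have h2 : Nat.Coprime p r := ((Nat.Prime.coprime_iff_not_dvd hr').2 hr.not_dvd).symm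
      have h3 := Nat.ModEq.pow_totient h2
      rw [Nat.totient_prime hr'] at h3
      exact (Nat.modEq_iff_dvd' (Nat.one_le_pow _ _ hp.pos)).1 h3.symm
    have h2 := Nat.le_of_dvd (by have := hr'.two_le; omega) ((hr.dvd_iff _).1 h1)
    have := hr'.two_le
    omega
  have hrn : ¬ r ∣ n := by
    intro hd
    have h1 := (hprim r hr' hd).dvd_iff 4
    have h2 := (hrq 4).2 dvd_rfl
    have h3 := h1.1 h2
    omega
  have S : Sit A N x 4 n.minFac r := by
    refine ⟨hNA, hNn, hNc, ?_, ?_, hxN, ?_, ?_, ?_, ?_, ?_, hr', ?_, ?_⟩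
    · have := hsim
      exact E.isSimpleGroup
    · intro hc
      apply hnab
      exact ⟨⟨fun a b => E.symm.injective (by rw [map_mul, map_mul, hc])⟩⟩
    · intro K' hK' hxK' hne
      have hcK : Nat.card ((K'.subgroupOf N).map E.toMonoidHom) = Nat.card K' := by
        rw [← Nat.card_congr ((K'.subgroupOf N).equivMapOfInjective E.toMonoidHom E.injective).toEquiv]
        exact Nat.card_congr (Subgroup.subgroupOfEquivOfLe hK').toEquiv
      have h1 : Nat.card K' ∣ 4 * n := by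
        rw [← hcK]
        apply hkf
        · rw [hcK, ← hox]
          exact Subgroup.orderOf_dvd_natCard _ hxK'
        · intro htop
          apply hne
          refine le_antisymm hK' ?_
          intro y hy
          have h2 : E ⟨y, hy⟩ ∈ (K'.subgroupOf N).map E.toMonoidHom := by rw [htop]; exact mem_top _
          exact (Subgroup.mem_map_iff_mem (f := E.toMonoidHom) E.injective).1 h2
      refine ⟨?_, by rw [hox]; exact h1⟩
      have h2 := Cfsg.Agent.H394.Wei.le_normalizer_of_card (k := 4) hxK' (by norm_num) (by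
        rw [hox]
        refine Nat.coprime_of_dvd fun t ht h3 h4 => ?_
        have h5 := (hprim t ht h3)
        have h6 : t ≤ 4 := (Nat.Prime.dvd_factorial ht).1 h4
        have h7 := hnodd t ht h3
        have h8 : t ≠ 3 := by
          rintro rfl
          have h9 : 3 ∣ q ^ 2 - 1 ∨ 3 ∣ q := by
            by_cases h10 : 3 ∣ q
            · exact Or.inr h10
            · left
              have h11 : q % 3 = 1 ∨ q % 3 = 2 := by omega
              have h12 : q ^ 2 % 3 = 1 := by rcases h11 with h | h <;> simp [Nat.pow_mod, h]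
              omega
          rcases h9 with h9 | h9
          · have := (h5.dvd_iff 2).1 h9
            omega
          · exact h5.not_dvd h9
        have h9 := ht.two_le
        have h10 : t ≠ 4 := by rintro rfl; exact absurd ht (by norm_num)
        omega) (by rw [hox]; exact h1)
      intro k hk
      exact ((mem_normalizer_iff.1 (h2 hk)) x).1 (mem_zpowers x)
    · rw [hox]
      exact (Nat.coprime_pow_left_iff (n := 2) (by norm_num) 2 n).2 (Nat.coprime_two_left.2 hoddn)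
    · exact Nat.minFac_prime (by omega)
    · rw [hox]; exact Nat.minFac_dvd n
    · rw [hox, hcardN, Nat.mul_div_cancel_left _ (by omega)]
      have hs := hprim _ (Nat.minFac_prime (by omega)) (Nat.minFac_dvd n)
      intro hd
      rcases hs.prime.dvd_mul.1 hd with h1 | h1
      · rcases hs.prime.dvd_mul.1 h1 with h1 | h1
        · rcases hs.prime.dvd_mul.1 h1 with h1 | h1
          · exact hs.not_dvd_pow _ h1
          · exact hs.not_dvd_sub (by norm_num) h1
        · exact hs.not_dvd_sub (by norm_num) h1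
      · refine hs.not_dvd_sub (show ¬ 12 ∣ 6 by norm_num) (h1.trans ⟨q ^ 2 - 1, ?_⟩)
        have h2 : 1 ≤ q ^ 2 := Nat.one_le_pow _ _ (by omega)
        have h3 : 1 ≤ q ^ 6 := Nat.one_le_pow _ _ (by omega)
        zify [h2, h3]
        ring
    · rw [hox]
      intro hd
      rcases hr'.dvd_mul.1 hd with h1 | h1
      · have := Nat.le_of_dvd (by norm_num) h1
        omega
      · exact hrn h1
    · intro g hg hgr
      have hFp := Fact.mk hp
      have hch : CharP K p := charP_of_card_eq_prime_pow (f := f * 3) (by rw [hK, hq, ← pow_mul])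
      refine mem_of_out hNA hNn hNc E hr' ?_ hg hgr
      have h1 := Cfsg.Agent.S2129.result (K := K) p f (by rw [hK, hq, ← pow_mul, mul_comm f 3]) hf
      rw [← hq] at h1
      rw [h1]
      intro hd
      have := Nat.le_of_dvd (by omega) hd
      omega
  refine no_orth hQf m h S (d := 2) (by norm_num) (by rw [hox]; exact hoddn) ?_ ?_ (by omega) ?_ ?_
  · rw [hox, hF, ← pow_mul, ← td4_sub (by omega : 1 ≤ q), hn]
    exact Dvd.intro_left _ rfl
  · intro j hj hj4
    rw [hox, hF, ← pow_mul]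
    refine Nat.coprime_of_dvd fun t ht h1 h2 => ?_
    have h3 := ((hprim t ht h1).dvd_iff _).1 h2
    omega
  · rw [hF, hq, ← pow_mul, ← pow_mul]
    refine hr.dvd_add ?_ ?_
    · exact ⟨3, by ring⟩
    · intro hd
      have h1 : 4 * f ∣ 6 * f := by
        have : f * (3 * 2) = 6 * f := by ring
        rwa [this] at hd
      have h2 := (Nat.mul_dvd_mul_iff_right (by omega : 0 < f)).1 h1
      omega
  · intro j hj hj4 hd
    rw [hF, ← pow_mul, hrq] at hd
    omega

end Cfsg.Agent.H476.EPX
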